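import Groth.Agent.ShStab.K847.StabBasic
import Groth.Agent.ShStab.K848.Poly
import Groth.Agent.Sga5.AmpleFib
import Groth.Prelude

/-!
# Restriction of Gieseker semistable modules from the restriction of `ℓ`-semistable ones

`NodeX.main`: the restriction theorem for `ℓ`-semistability (`1 ≤ ℓ < d`) implies the restriction theorem
for Gieseker semistability (`d ≥ 2`), through `ℓ = d - 1`.
-/

set_option autoImplicit false
universe u
open CategoryTheory CategoryTheory.Limits AlgebraicGeometry Polynomial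

namespace K46.NodeX

open Groth.Agent ShStab StabCat

section

variable (k : Type u) [Field k] {X : Scheme.{u}} [X.Over (Spec (CommRingCat.of k))]
  [IsProper (X ↘ Spec (CommRingCat.of k))]

/-- A semistable module is `ℓ`-semistable, for every `ℓ`. -/
theorem isEllSemistable_of_isSemistable {L E : X.Modules} (hL : CohB1.IsAmple L) {d ℓ : ℕ}
    (h : IsSemistable k X L E d) : IsEllSemistable k X L E d ℓ := by
  obtain ⟨h1, h2, h3, h4⟩ := h
  refine ⟨h1, h2, h3, ?_⟩
  intro F ι hι hF pF pE hpF hpE h5 h6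
  have h0 : ¬ IsZero F := fun hz => by
    rw [K847.HilbBasic.hilbPoly_eq_zero k hz hpF, K847.PolyOrd.alpha_zero] at h5; exact lt_irrefl _ h5
  have hiso : ¬ IsIso ι := fun hi => by
    rw [K847.StabBasic.isIso_hilbPoly_eq k ι hpF hpE] at h6; exact lt_irrefl _ h6
  refine K848.Poly.redLE_topPart ℓ d ?_ ?_ (h4 F ι hι hF h0 hiso pF pE hpF hpE)
  · exact K847.HilbBasic.natDegree_le k hL.1 hF (h3 F ι hι hF h0).le hpF
  · exact K847.HilbBasic.natDegree_le k hL.1 h1 (K847.StabBasic.dim_support_eq_of_isPure h1 h2 h3).le hpE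

/-- A `d`-semistable module is semistable. -/
theorem isSemistable_of_isEllSemistable {L E : X.Modules} (hL : CohB1.IsAmple L) {d ℓ : ℕ} (hℓ : d ≤ ℓ)
    (h : IsEllSemistable k X L E d ℓ) : IsSemistable k X L E d := by
  obtain ⟨h1, h2, h3, h4⟩ := h
  exact ⟨h1, h2, h3, (K847.StabBasic.isSS_iff_isEllSS k hL hℓ h1 h3).mpr h4⟩

end

/-- The restriction theorem for `ℓ`-semistable modules (the statement of `S18972`). -/
def EllRestr : Prop := ∀ (k : Type u) [Field k] [IsAlgClosed k]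
    (X : Scheme.{u}) [X.Over (Spec (CommRingCat.of k))] [IsIntegral X]
    [Smooth (X ↘ Spec (CommRingCat.of k))] [IsProper (X ↘ Spec (CommRingCat.of k))]
    (N : ℕ) (ι : X ⟶ CohB1.ProjSpace N k) [IsClosedImmersion ι]
    (_ : ι ≫ CohB1.ProjSpace.toSpec N k = X ↘ Spec (CommRingCat.of k))
    (_ : CohB1.IsAmple ((Scheme.Modules.pullback ι).obj (Twist.twistProjSpace N k 1)))
    (d ℓ : ℕ) (_ : 1 ≤ ℓ) (_ : ℓ < d) (E : X.Modules)
    (_ : ShStab.IsEllSemistable k X ((Scheme.Modules.pullback ι).obj (Twist.twistProjSpace N k 1)) E d ℓ),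
    ∃ a₀ : ℕ, ∀ a : ℕ, a₀ ≤ a → ∀ T : Set ↥X, T.Finite →
      ∃ σ : Coh.structureModule X ⟶ (Scheme.Modules.pullback ι).obj (Twist.twistProjSpace N k (a : ℤ)),
        (∀ x ∈ T, x ∉ (PicF2.zeroScheme _ σ).support) ∧
        letI : (PicF2.zeroScheme _ σ).subscheme.Over (Spec (CommRingCat.of k)) :=
          ⟨(PicF2.zeroScheme _ σ).subschemeι ≫ X ↘ Spec (CommRingCat.of k)⟩
        ShStab.IsEllSemistable k (PicF2.zeroScheme _ σ).subscheme
          ((Scheme.Modules.pullback (PicF2.zeroScheme _ σ).subschemeι).obj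
            ((Scheme.Modules.pullback ι).obj (Twist.twistProjSpace N k 1)))
          ((Scheme.Modules.pullback (PicF2.zeroScheme _ σ).subschemeι).obj E) (d - 1) ℓ

/-- **Node X**: the restriction theorem for Gieseker semistable modules. -/
theorem main (hR : EllRestr.{u}) (k : Type u) [Field k] [IsAlgClosed k]
    (X : Scheme.{u}) [X.Over (Spec (CommRingCat.of k))] [IsIntegral X]
    [Smooth (X ↘ Spec (CommRingCat.of k))] [IsProper (X ↘ Spec (CommRingCat.of k))]
    (N : ℕ) (ι : X ⟶ CohB1.ProjSpace N k) [IsClosedImmersion ι]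
    (hι : ι ≫ CohB1.ProjSpace.toSpec N k = X ↘ Spec (CommRingCat.of k))
    (hL : CohB1.IsAmple ((Scheme.Modules.pullback ι).obj (Twist.twistProjSpace N k 1)))
    (d : ℕ) (hd : 2 ≤ d) (E : X.Modules)
    (hE : ShStab.IsSemistable k X ((Scheme.Modules.pullback ι).obj (Twist.twistProjSpace N k 1)) E d) :
    ∃ a₀ : ℕ, ∀ a : ℕ, a₀ ≤ a → ∀ T : Set ↥X, T.Finite →
      ∃ σ : Coh.structureModule X ⟶ (Scheme.Modules.pullback ι).obj (Twist.twistProjSpace N k (a : ℤ)),
        (∀ x ∈ T, x ∉ (PicF2.zeroScheme _ σ).support) ∧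
        letI : (PicF2.zeroScheme _ σ).subscheme.Over (Spec (CommRingCat.of k)) :=
          ⟨(PicF2.zeroScheme _ σ).subschemeι ≫ X ↘ Spec (CommRingCat.of k)⟩
        ShStab.IsSemistable k (PicF2.zeroScheme _ σ).subscheme
          ((Scheme.Modules.pullback (PicF2.zeroScheme _ σ).subschemeι).obj
            ((Scheme.Modules.pullback ι).obj (Twist.twistProjSpace N k 1)))
          ((Scheme.Modules.pullback (PicF2.zeroScheme _ σ).subschemeι).obj E) (d - 1) := by
  obtain ⟨a₀, h⟩ := hR k X N ι hι hL d (d - 1) (by omega) (by omega) E (isEllSemistable_of_isSemistable k hL hE)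
  refine ⟨a₀, fun a ha T hT => ?_⟩
  obtain ⟨σ, h1, h2⟩ := h a ha T hT
  refine ⟨σ, h1, ?_⟩
  letI : (PicF2.zeroScheme _ σ).subscheme.Over (Spec (CommRingCat.of k)) :=
    ⟨(PicF2.zeroScheme _ σ).subschemeι ≫ X ↘ Spec (CommRingCat.of k)⟩
  haveI : IsProper ((PicF2.zeroScheme _ σ).subscheme ↘ Spec (CommRingCat.of k)) :=
    inferInstanceAs (IsProper ((PicF2.zeroScheme _ σ).subschemeι ≫ X ↘ Spec (CommRingCat.of k)))
  exact isSemistable_of_isEllSemistable k (Sga5.AmpleFib.isAmple_pullback _ hL) le_rfl h2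

end K46.NodeX
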